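import Cfsg.Agent.H566.RC.Dia
import Cfsg.Agent.H93.RC.Defs
import Cfsg.Agent.ClassicalGeometry.Universal
import Cfsg.Agent.ClassicalGeometry.OrthDickson

/-!
# Linear octonion automorphisms lie in `E Q` (helper692, for the triality row of S3510)

* `mem_E_of_aut` : a linear octonion automorphism over a finite field lies in `E Q` and its class is fixed by `rho`;
* `tri_of_dia_one` : the automorphisms of the para-octonion product are octonion automorphisms.
-/

set_option autoImplicit false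

namespace Cfsg.Agent.H692.RC

open Module QuadraticMap Cfsg.Agent.LieClassical.OrthCore Cfsg.Agent.LieClassical.OrthTrans
  Cfsg.Agent.LieClassical.OrthSimple Cfsg.Agent.ClassicalGeometry.OrthAut1
  Cfsg.Agent.ClassicalGeometry.OrthSemi Cfsg.Agent.H198.Classes
  Cfsg.Agent.LieClassical.QuadForms Cfsg.Agent.H198.ClassesPlus
  Cfsg.Agent.ClassicalGeometry.TrialityOct Cfsg.Agent.ClassicalGeometry.Triality
  Cfsg.Agent.ClassicalGeometry.TrialitySpaces Cfsg.Agent.H198.TriBase Cfsg.Agent.H198.TriAut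
  Cfsg.Agent.H198.TriDia Cfsg.Agent.H198.TriTC

universe u

variable {F : Type u} [Field F]

section general

variable {V : Type*} [AddCommGroup V] [Module F V] {Q : QuadraticForm F V}

/-- reflections whose norms differ by a square agree modulo `E Q` -/
theorem refl_pair_mem (hG : Good Q) {a b : V} (ha : Q a ≠ 0) (hb : Q b ≠ 0) {d : F}
    (h : Q b = d ^ 2 * Q a) : refl Q a ha * refl Q b hb ∈ E Q := by
  have hd : d ≠ 0 := by
    rintro rfl
    rw [zero_pow two_ne_zero, zero_mul] at h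
    exact hb h
  have h1 : Q (d⁻¹ • b) = Q a := by
    rw [QuadraticMap.map_smul, h, smul_eq_mul]
    field_simp
  have h2 : Q (d⁻¹ • b) ≠ 0 := by rw [h1]; exact ha
  rw [← refl_smul hb (inv_ne_zero hd) h2]
  exact hG.refl_mul_refl_mem h2 ha h1

theorem sq_of_isSquare {x y : F} (hx : x ≠ 0) (h : IsSquare (x * y)) : ∃ d : F, y = d ^ 2 * x := by
  obtain ⟨s, hs⟩ := h
  refine ⟨s / x, ?_⟩
  have h1 : y = s * s / x := by rw [← hs]; field_simp
  rw [h1]
  field_simp

theorem three [Finite F] {x y z : F} : IsSquare (x * y) ∨ IsSquare (y * z) ∨ IsSquare (x * z) := by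
  by_cases h2 : (2 : F) = 0
  · obtain ⟨c, hc⟩ := ClassicalGeometry.OrthDickson.exists_sq_of_two h2 (x * y)
    exact Or.inl ⟨c, hc.symm⟩
  · by_cases hx : IsSquare x <;> by_cases hy : IsSquare y <;> by_cases hz : IsSquare z
    · exact Or.inl (hx.mul hy)
    · exact Or.inl (hx.mul hy)
    · exact Or.inr (Or.inr (hx.mul hz))
    · exact Or.inr (Or.inl (ClassicalGeometry.Universal.isSquare_mul_of_not h2 hy hz))
    · exact Or.inr (Or.inl (hy.mul hz))
    · exact Or.inr (Or.inr (ClassicalGeometry.Universal.isSquare_mul_of_not h2 hx hz))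
    · exact Or.inl (ClassicalGeometry.Universal.isSquare_mul_of_not h2 hx hy)
    · exact Or.inl (ClassicalGeometry.Universal.isSquare_mul_of_not h2 hx hy)

/-- representatives of `O Q` modulo `E Q` -/
def Rp (Q : QuadraticForm F V) (x : V ≃ₗ[F] V) : Prop :=
  ∃ e ∈ E Q, x = e ∨ (∃ a, ∃ ha : Q a ≠ 0, x = e * refl Q a ha) ∨
    ∃ a b, ∃ (ha : Q a ≠ 0) (hb : Q b ≠ 0), x = e * (refl Q a ha * refl Q b hb)

theorem Rp.refl_mul [Finite F] (hG : Good Q) {v : V} (hv : Q v ≠ 0) {x : V ≃ₗ[F] V} (h : Rp Q x) :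
    Rp Q (refl Q v hv * x) := by
  have hc : ∀ e ∈ E Q, refl Q v hv * e * (refl Q v hv)⁻¹ ∈ E Q := fun e he => conj_mem_E (refl_mem_O hv) he
  obtain ⟨e, he, rfl | ⟨a, ha, rfl⟩ | ⟨a, b, ha, hb, rfl⟩⟩ := h
  · exact ⟨_, hc x he, Or.inr (Or.inl ⟨v, hv, by group⟩)⟩
  · exact ⟨_, hc e he, Or.inr (Or.inr ⟨v, a, hv, ha, by group⟩)⟩
  · rcases three (x := Q v) (y := Q a) (z := Q b) with h | h | h
    · obtain ⟨d, hd⟩ := sq_of_isSquare hv h
      have h1 := refl_pair_mem hG hv ha hd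
      exact ⟨_, mul_mem (hc e he) h1, Or.inr (Or.inl ⟨b, hb, by group⟩)⟩
    · obtain ⟨d, hd⟩ := sq_of_isSquare ha h
      have h1 := refl_pair_mem hG ha hb hd
      exact ⟨_, hc _ (mul_mem he h1), Or.inr (Or.inl ⟨v, hv, by group⟩)⟩
    · obtain ⟨d, hd⟩ := sq_of_isSquare hv h
      have h1 := refl_pair_mem hG hv hb hd
      have h2 : refl Q a ha * (refl Q v hv * refl Q b hb) * (refl Q a ha)⁻¹ ∈ E Q :=
        conj_mem_E (refl_mem_O ha) h1
      have hva : Q (refl Q v hv a) ≠ 0 := by rw [mem_O.1 (refl_mem_O hv)]; exact ha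
      have h3 := refl_conj (refl_mem_O hv) ha hva
      have h4 : refl Q (refl Q v hv a) hva * (refl Q v hv * refl Q b hb) * (refl Q (refl Q v hv a) hva)⁻¹ ∈ E Q :=
        conj_mem_E (refl_mem_O hva) h1
      refine ⟨_, mul_mem (hc e he) h4, Or.inr (Or.inl ⟨_, hva, ?_⟩)⟩
      rw [← h3]
      group

theorem Rp.mul_left (_hG : Good Q) {g x : V ≃ₗ[F] V} (hg : g ∈ E Q) (h : Rp Q x) : Rp Q (g * x) := by
  obtain ⟨e, he, rfl | ⟨a, ha, rfl⟩ | ⟨a, b, ha, hb, rfl⟩⟩ := h
  · exact ⟨_, mul_mem hg he, Or.inl rfl⟩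
  · exact ⟨_, mul_mem hg he, Or.inr (Or.inl ⟨a, ha, by group⟩)⟩
  · exact ⟨_, mul_mem hg he, Or.inr (Or.inr ⟨a, b, ha, hb, by group⟩)⟩

theorem rp_of_mem_O [Finite F] (hG : Good Q) {x : V ≃ₗ[F] V} (hx : x ∈ O Q) : Rp Q x := by
  have : FiniteDimensional F V := Module.finite_of_finrank_pos (by have := hG.dim; omega)
  rw [O_eq_closure hG.nondeg] at hx
  induction hx using Subgroup.closure_induction_left with
  | one => exact ⟨1, one_mem _, Or.inl rfl⟩
  | mul_left g hg y hy ih =>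
    rcases hg with ⟨v, hv, rfl⟩ | hg
    · exact ih.refl_mul hG hv
    · exact ih.mul_left hG (Subgroup.subset_closure hg)
  | inv_mul_cancel g hg y hy ih =>
    rcases hg with ⟨v, hv, rfl⟩ | hg
    · rw [refl_inv]
      exact ih.refl_mul hG hv
    · exact ih.mul_left hG (inv_mem (Subgroup.subset_closure hg))

end general

/-- uniqueness of the second member of a triple -/
theorem second_unique (hG : Good (plusForm 4 F)) {M A B A' B' : G8 F} (h : TriS M A B) (h' : TriS M A' B') :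
    ∃ c : Fˣ, ∀ v, A.1 v = A'.1 ((c : F) • v) := by
  have h1 : Psi (plusForm 4 F) (kapG F * A * kapG F) = Psi (plusForm 4 F) (kapG F * A' * kapG F) := by
    rw [← rho_conj hG h, ← rho_conj hG h']
  obtain ⟨c, hc⟩ := smul_of_Psi_eq hG h1
  refine ⟨c, fun v => ?_⟩
  have h2 := hc (oconj v)
  change oconj (A.1 (oconj (oconj v))) = oconj (A'.1 (oconj ((c : F) • oconj v))) at h2
  rw [oconj_oconj, oconj_smul, oconj_oconj] at h2
  have h3 := congrArg oconj h2
  rwa [oconj_oconj, oconj_oconj] at h3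

/-- the multiplier of a linear similarity -/
theorem mult_of_one {M : G8 F} {c : F} (h : IsSS (plusForm 4 F) (RingEquiv.refl F) c M.1) :
    plusForm 4 F (M.1 (one8 F)) = c := by
  rw [h.form, norm_one8]
  simp

/-- **P1.** A linear octonion automorphism (finite field) lies in `E Q`. -/
theorem exists_E [Finite F] (hG : Good (plusForm 4 F)) {M : G8 F} (hT : TriS M M M) (hl : IsLin M) :
    ∃ g : ↥(E (plusForm 4 F)), H93.RC.tg (plusForm 4 F) g = M := by
  obtain ⟨c, hc⟩ := hl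
  obtain rfl := aut_mult hT hc
  obtain ⟨x, hx⟩ := exists_gamO hc
  have hk : kp F M = 1 := (mem_T1_iff hG).1 ⟨_, _, hT⟩
  obtain ⟨e, he, h | ⟨a, ha, h⟩ | ⟨a, b, ha, hb, h⟩⟩ := rp_of_mem_O hG x.2
  · refine ⟨⟨e, he⟩, ?_⟩
    rw [← hx]
    apply Subtype.ext
    ext1 v
    change e v = (x : V8 F ≃ₗ[F] V8 F) v
    rw [h]
  · exfalso
    have h1 : x = ⟨e, E_le_O he⟩ * ⟨refl _ a ha, refl_mem_O ha⟩ := Subtype.ext h
    rw [← hx, h1, map_mul, map_mul, kp_refl ha, kappa_of_E hG _ he] at hk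
    exact absurd hk (by decide)
  · have h1 : x = ⟨e, E_le_O he⟩ * (⟨refl _ a ha, refl_mem_O ha⟩ * ⟨refl _ b hb, refl_mem_O hb⟩) :=
      Subtype.ext h
    obtain ⟨e₁, e₂, ht⟩ := exists_triple hG he
    have hte := triS_of_triE ht
    set α : Fˣ := Units.mk0 (-(plusForm 4 F a)⁻¹) (neg_ne_zero.2 (inv_ne_zero ha)) with hα
    set β : Fˣ := Units.mk0 (-(plusForm 4 F b)⁻¹) (neg_ne_zero.2 (inv_ne_zero hb)) with hβ
    have k1 : TriS (scal _ α * bG a ha) (scal _ α * lG a ha) (1 * rG a ha) := (tri_scal α).mul (tri_bG a ha)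
    have k2 := ((tri_scal β).mul (tri_bG b hb)).kap
    have k3 := hte.mul (k1.mul k2)
    have k4 : gamO _ ⟨e, E_le_O he⟩ * (scal _ α * bG a ha * (kapG F * (scal _ β * bG b hb) * kapG F)) = M := by
      rw [← hx, h1, map_mul, map_mul, gamO_refl, gamO_refl, ← hα, ← hβ]
      simp only [mul_assoc]
    rw [k4] at k3
    obtain ⟨c, hc'⟩ := second_unique hG k3 hT
    have e1 := congrArg (plusForm 4 F) (hc' (one8 F))
    have e2 : plusForm 4 F (M.1 ((c : F) • one8 F)) = (c : F) ^ 2 := by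
      rw [hc.form, QuadraticMap.map_smul, norm_one8]
      simp
      ring
    rw [e2] at e1
    have e3 : plusForm 4 F ((gamO _ ⟨e₁, E_le_O ht.1.2.1⟩ * (scal _ α * lG a ha *
        (kapG F * (1 * rG b hb) * kapG F))).1 (one8 F)) =
        (α : F) ^ 2 * plusForm 4 F a * plusForm 4 F b := by
      change plusForm 4 F (e₁ ((α : F) • omul a (oconj (omul (oconj (one8 F)) b)))) = _
      rw [mem_O.1 (E_le_O ht.1.2.1), QuadraticMap.map_smul, norm_omul, norm_oconj, norm_omul, norm_oconj,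
        norm_one8, smul_eq_mul]
      ring
    have e4 : (α : F) ^ 2 * plusForm 4 F a * plusForm 4 F b = (c : F) ^ 2 := by
      rw [← e3]
      exact e1
    have e5 : plusForm 4 F b = (c : F) ^ 2 * plusForm 4 F a := by
      rw [← e4, hα]
      change _ = (-(plusForm 4 F a)⁻¹) ^ 2 * _ * _ * _
      field_simp
    have e6 := refl_pair_mem hG ha hb e5
    refine ⟨⟨e * (refl _ a ha * refl _ b hb), mul_mem he e6⟩, ?_⟩
    rw [← hx]
    apply Subtype.ext
    ext1 v
    change (e * (refl _ a ha * refl _ b hb)) v = (x : V8 F ≃ₗ[F] V8 F) v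
    rw [h]

theorem rho_fix (hG : Good (plusForm 4 F)) {M : G8 F} (hT : TriS M M M) {g : ↥(E (plusForm 4 F))}
    (hg : H93.RC.tg (plusForm 4 F) g = M) : rho hG (g : P8 F) = (g : P8 F) := by
  have hgM : ∀ v, (g : V8 F ≃ₗ[F] V8 F) v = M.1 v := fun v => by rw [← hg]; rfl
  obtain ⟨g₁, g₂, h⟩ := exists_triple hG g.2
  have h1 : TriE (g : V8 F ≃ₗ[F] V8 F) (⟨g₁, h.1.2.1⟩ : ↥(E (plusForm 4 F))) g₂ := h
  rw [rho_mk hG h1]
  have h2 : Tri (g : V8 F ≃ₗ[F] V8 F) g g := fun x y => by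
    rw [hgM, hgM, hgM]; exact hT x y
  obtain ⟨c, hc0, hc1, -⟩ := h2.unique h.2
  symm
  apply mk_eq_of_smul (c := c)
  intro v
  change oconj (g₁ (oconj v)) = _
  rw [hc1, oconj_smul, hgM, hgM, aut_oconj hT, oconj_oconj]

/-- **P1.** -/
theorem mem_E_of_aut [Finite F] (hG : Good (plusForm 4 F)) {M : G8 F} (hT : TriS M M M) (hl : IsLin M) :
    ∃ g : ↥(E (plusForm 4 F)), H93.RC.tg (plusForm 4 F) g = M ∧ rho hG (g : P8 F) = (g : P8 F) := by
  obtain ⟨g, hg⟩ := exists_E hG hT hl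
  exact ⟨g, hg, rho_fix hG hT hg⟩

/-- **P7.** The linear similarities which are automorphisms of the para-octonion product are octonion automorphisms. -/
theorem tri_of_dia_one {M : G8 F} (hl : IsLin M) (hd : ∀ u w, M.1 (dia 1 u w) = dia 1 (M.1 u) (M.1 w)) :
    TriS M M M := by
  obtain ⟨c, hc⟩ := hl
  let g : V8 F ≃ₗ[F] V8 F := { M.1 with
    map_add' := hc.add
    map_smul' := hc.smul }
  exact fun x y => dia_one_aut (g := g) hd x y

end Cfsg.Agent.H692.RC
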